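import Cfsg.Agent.Lib.KgT.Fld
import Cfsg.Agent.Lib.Core.Fitting
import Cfsg.Agent.Lib.Char.Burnside

/-! The solvable groups on `3 ^ 4` vectors. -/

set_option autoImplicit false

namespace CfsgLib.KgT

open Subgroup

/-- the Frobenius group of order `80` has at most `8` classes -/
theorem e81_frob {N : Type*} [Group N] [Finite N] (W : Subgroup N) [IsMulCommutative W]
    (hW : Nat.card W = 16) (hi : W.index = 5) {y : N} (hy : ∀ w ∈ W, Commute y w → w = 1) :
    kk N ≤ 8 := by
  classical
  have := Fintype.ofFinite N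
  have hN : Nat.card N = 80 := by rw [← W.card_mul_index, hW, hi]
  have h1 : ∀ w ∈ W, w ≠ 1 → centralizer ({w} : Set N) = W := by
    intro w hw h0
    have hle : W ≤ centralizer ({w} : Set N) := fun u hu =>
      mem_centralizer_singleton_iff.2 (setLike_mul_comm (s := W) hu hw)
    have hd := index_dvd_of_le hle
    rw [hi] at hd
    rcases (Nat.dvd_prime (by norm_num)).1 hd with h | h
    · have : y ∈ centralizer ({w} : Set N) := (index_eq_one.1 h).ge (mem_top y)
      exact absurd (hy w hw (mem_centralizer_singleton_iff.1 this)) h0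
    · refine (eq_of_le_of_card_ge hle ?_).symm
      have := (centralizer ({w} : Set N)).card_mul_index
      rw [h, hN] at this
      omega
  have h2 : ∀ x : N, Nat.card (centralizer ({x} : Set N)) ≤
      (if x = 1 then 64 else 0) + (if x ∈ W then 11 else 0) + 5 := by
    intro x
    by_cases hx : x ∈ W
    · by_cases h0 : x = 1
      · rw [if_pos h0, if_pos hx]
        exact (card_le_card_group _).trans hN.le
      · rw [if_neg h0, if_pos hx, h1 x hx h0, hW]
    · have : W ⊓ centralizer ({x} : Set N) = ⊥ := by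
        refine eq_bot_iff.2 fun w hw => ?_
        by_contra h0
        exact hx ((h1 w hw.1 h0).le (mem_centralizer_singleton_iff.2
          (mem_centralizer_singleton_iff.1 hw.2).symm))
      have h3 := Fgs.kcl_card_centralizer_le W x
      rw [this, card_bot, hi] at h3
      omega
  have h3 := Finset.sum_le_sum fun x (_ : x ∈ Finset.univ) => h2 x
  have h4 : (Finset.univ.filter fun x : N => x ∈ W).card = 16 := by
    rw [← hW]
    exact (Nat.subtype_card _ (by simp)).symm
  rw [Char.sum_card_centralizer, Finset.sum_add_distrib, Finset.sum_add_distrib,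
    Finset.sum_ite_eq', ← Finset.sum_filter, Finset.sum_const, Finset.sum_const, h4,
    Finset.card_univ, ← Nat.card_eq_fintype_card, hN] at h3
  simp only [Finset.mem_univ, if_true, smul_eq_mul] at h3
  change Nat.card (ConjClasses N) ≤ 8
  omega

/-- the structure of `H = 2 ^ 4 : (5 : 4)` -/
theorem e81_quot {H : Type*} [Group H] [Finite H] [Group.IsSolvable H] (W : Subgroup H) [W.Normal]
    [IsMulCommutative W] (hW : Nat.card W = 16)
    (hmin : ∀ M : Subgroup H, M.Normal → M ≤ W → M = ⊥ ∨ M = W)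
    (hself : ∀ c : H, (∀ w ∈ W, Commute c w) → c ∈ W) {a : ℕ} (hH : Nat.card H ∣ 2 ^ a * 5)
    {y : H} (hy5 : y ^ 5 = 1) (hy : ∀ w ∈ W, Commute y w → w = 1) :
    kk H ≤ 32 ∧ Nat.card H ≤ 320 := by
  have hW0 : W ≠ ⊥ := by
    intro h
    rw [h, card_bot] at hW
    omega
  have hW2 : IsPGroup 2 W := IsPGroup.of_card (n := 4) hW
  have hyW : y ∉ W := fun h =>
    hW0 (eq_bot_iff.2 fun w hw => hy w hw (setLike_mul_comm (s := W) h hw))
  have : Nontrivial (H ⧸ W) := ⟨⟨y, 1, fun h => hyW ((QuotientGroup.eq_one_iff y).1 h)⟩⟩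
  have hO : Cfsg.pCore 2 (H ⧸ W) = ⊥ := by
    refine Core.pCore_eq_bot_iff.2 fun M hM hM2 => ?_
    set Q := M.comap (QuotientGroup.mk' W) with hQ
    have hQ2 : IsPGroup 2 Q := hM2.comap_of_ker_isPGroup _ (by rwa [QuotientGroup.ker_mk'])
    have h1 := Core.inf_centralizer_ne_bot_of_isPGroup hW2 hQ2 (le_normalizer_of_normal) hW0
    have h2 := (hmin _ inferInstance inf_le_left).resolve_left h1
    refine eq_bot_iff.2 fun x hx => ?_
    obtain ⟨x, rfl⟩ := QuotientGroup.mk_surjective x
    exact (QuotientGroup.eq_one_iff x).2 (hself x fun w hw => (h2.ge hw).2 x hx)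
  set F := Cfsg.fittingSubgroup (H ⧸ W) with hF
  have := Core.fittingSubgroup_normal (H ⧸ W)
  have hF5 : Nat.card F = 5 := by
    have h1 : (Nat.card F).Coprime 2 := (Core.coprime_card_pPrimeCore 2 _).coprime_dvd_left
      (card_dvd_of_le (Core.fittingSubgroup_le_pPrimeCore_of_pCore_eq_bot Nat.prime_two hO))
    have h2 : Nat.card F ∣ 2 ^ a * 5 :=
      ((card_subgroup_dvd_card F).trans (card_quotient_dvd_card W)).trans hH
    refine ((Nat.dvd_prime (by norm_num)).1 ((h1.pow_right a).dvd_of_dvd_mul_left h2)).resolve_left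
      fun h => Core.fittingSubgroup_ne_bot (card_eq_one.1 h)
  have hFi : F.index ≤ 4 := by
    have : Fact (Nat.Prime 5) := ⟨by norm_num⟩
    have hc : IsCyclic F := isCyclic_of_prime_card hF5
    have h1 : (MulAut.conjNormal : H ⧸ W →* MulAut F).ker ≤ F := fun g hg =>
      Core.centralizer_fittingSubgroup_le fun x hx => by
        have := congrArg Subtype.val (DFunLike.congr_fun hg ⟨x, hx⟩)
        exact (mul_inv_eq_iff_eq_mul.1 this).symm
    refine (index_antitone h1).trans ?_
    rw [index_ker]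
    refine (card_le_card_group _).trans ?_
    rw [hc.card_mulAut, hF5]
    rfl
  set N := F.comap (QuotientGroup.mk' W) with hN
  have hNi : N.index ≤ 4 := by
    rwa [hN, index_comap_of_surjective _ (QuotientGroup.mk'_surjective W)]
  have hN80 : Nat.card N = 80 := by rw [hN, Core.card_comap_mk', hF5, hW]
  have hWN : W ≤ N := fun w hw => by
    change (w : H ⧸ W) ∈ F
    rw [(QuotientGroup.eq_one_iff w).2 hw]; exact one_mem _
  have hyN : y ∈ N := by
    have h0 : N.index ≠ 0 := index_ne_zero_of_finite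
    have h1 : N.index.Coprime (orderOf y) := by
      refine Nat.Coprime.coprime_dvd_right (orderOf_dvd_of_pow_eq_one hy5) ?_
      interval_cases N.index <;> first | exact absurd rfl h0 | norm_num
    obtain ⟨m, hm⟩ := exists_pow_eq_self_of_coprime h1
    rw [← hm]
    exact pow_mem (N.pow_index_mem y) m
  have hW' : Nat.card (W.subgroupOf N) = 16 := by
    rw [← hW]; exact Nat.card_congr (subgroupOfEquivOfLe hWN).toEquiv
  have h8 : kk N ≤ 8 := e81_frob (W.subgroupOf N) hW' (by
    have := (W.subgroupOf N).card_mul_index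
    rw [hW', hN80] at this
    omega) (y := ⟨y, hyN⟩) fun w hw h => Subtype.ext (hy w hw (congrArg Subtype.val h))
  refine ⟨(Fgs.card_conjClasses_le_index_mul N).trans (Nat.mul_le_mul hNi h8), ?_⟩
  rw [← N.card_mul_index, hN80]
  omega

variable {G V : Type*} [Group G] [AddCommGroup V] [DistribMulAction G V] [Finite G] [Finite V]
  [FaithfulSMul G V]

theorem Tr.e81 (h : Tr G V 3 4) {a : ℕ} (hG : Nat.card G = 2 ^ a * 5) : Gam G V ∨ Lt G V := by
  have : Group.IsSolvable G := Char.isSolvable_of_card_eq_pow_mul_pow (a := a) (b := 1) Nat.prime_two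
    (by norm_num : Nat.Prime 5) (by rw [hG, pow_one])
  have := h.nontrivial
  obtain ⟨A, ⟨hA, hAc⟩, hmax⟩ := (wellFounded_gt (α := Subgroup G)).has_min
    {A | A.Normal ∧ IsMulCommutative A} ⟨⊥, inferInstance, inferInstance⟩
  obtain ⟨K, _, _, _, _, σ, ι, d, hσ, hι, hker, -, hn, hAd, hidx, hg⟩ := h.exists_field A
  by_cases hm1 : Module.finrank K V = 1
  · exact Or.inl (hg hm1)
  right
  have hd : d = 1 ∨ d = 2 := by
    have h1 : d ∣ 4 := ⟨_, hn.symm⟩
    have h2 := Nat.le_of_dvd (by norm_num) h1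
    interval_cases d <;> omega
  obtain ⟨y, hyC, hy5⟩ : ∃ y ∈ centralizer (A : Set G), orderOf y = 5 := by
    refine Core.exists_mem_orderOf_eq_of_dvd_card (by norm_num) (((Nat.Prime.dvd_mul (by norm_num)).1
      ((centralizer (A : Set G)).card_mul_index ▸ hG ▸ Dvd.intro_left _ rfl)).resolve_right fun h => ?_)
    have := Nat.le_of_dvd (Nat.pos_of_ne_zero index_ne_zero_of_finite) h
    omega
  have hA5 : ¬ 5 ∣ Nat.card A := fun h5 => by
    have := h5.trans hAd
    rcases hd with rfl | rfl <;> omega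
  have hne : centralizer (A : Set G) ≠ A := fun e =>
    hA5 (hy5 ▸ Subgroup.orderOf_dvd_natCard A (e ▸ hyC))
  obtain ⟨W, hW, r, -, -, hel, hmin, -, hWm, -, hself, hpr⟩ :=
    Perm.exists_sympl_section h.tr A
      (fun B h1 h2 h3 => (eq_of_le_of_not_lt h3 (hmax B ⟨h1, h2⟩)).symm)
      ι hι (fun g hg c v => by rw [hσ, (hker ▸ hg : g ∈ σ.ker)]; rfl) hne
  obtain ⟨t, h4, h5, h6⟩ := hpr y hyC (hy5 ▸ by norm_num) (hy5 ▸ hA5)
  rw [hy5] at h5 h6
  have h7 : t ≤ Module.finrank K V := (Nat.pow_le_pow_iff_left two_ne_zero).1 (h4.trans hWm)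
  obtain rfl : d = 1 := by rcases hd with rfl | rfl <;> omega
  have hm : Module.finrank K V = 4 := by omega
  obtain rfl : t = 4 := by omega
  have hW16 : Nat.card W = 16 := by
    rw [hm] at hWm
    omega
  have hC : centralizer (A : Set G) = ⊤ :=
    index_eq_one.1 (le_antisymm hidx (Nat.pos_of_ne_zero index_ne_zero_of_finite))
  have := hel.1
  obtain ⟨h8, h9⟩ := e81_quot W hW16 hmin (fun c hc => by
      obtain ⟨c, rfl⟩ := QuotientGroup.mk_surjective c
      exact hself c (hC.ge (mem_top c)) hc) (a := a) (hG ▸ card_quotient_dvd_card A)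
    (y := (y : G ⧸ A)) (by rw [← QuotientGroup.mk_pow, ← hy5, pow_orderOf_eq_one]; rfl)
    (h6 rfl (by rw [hW16]; rfl))
  have hA2 : Nat.card A ≤ 2 := Nat.le_of_dvd (by norm_num) hAd
  intro v hv
  have h10 := h.card_eq hv
  have h11 := card_eq_card_quotient_mul_card_subgroup A
  have h12 : Nat.card G ≤ 320 * 2 := h11 ▸ Nat.mul_le_mul h9 hA2
  have h13 := kk_le (MulAction.stabilizer G v)
  have h14 : kk G ≤ 2 * 32 := (Fgs.card_conjClasses_le_mul_quotient A).trans
    (Nat.mul_le_mul ((kk_le A).trans hA2) h8)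
  rw [h.card]
  omega

end CfsgLib.KgT
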