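import Cfsg.Agent.Lib.KgT.Defs

/-! The field attached to an abelian normal subgroup. -/

set_option autoImplicit false

namespace CfsgLib.KgT

open Subgroup CfsgLib.Perm

variable {G V : Type*} [Group G] [AddCommGroup V] [DistribMulAction G V] [Finite G] [Finite V]
  [FaithfulSMul G V] {p n : ℕ}

theorem Tr.exists_field (h : Tr G V p n) (A : Subgroup G) [A.Normal] [IsMulCommutative A] :
    ∃ (K : Type) (_ : Field K) (_ : Fintype K) (_ : Module K V) (_ : CharP K p)
      (σ : G →* RingAut K) (ι : A →* Kˣ) (d : ℕ),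
      (∀ (g : G) (c : K) (v : V), g • c • v = σ g c • g • v) ∧
      (∀ (a : A) (v : V), (a : G) • v = (ι a : K) • v) ∧ σ.ker = centralizer (A : Set G) ∧
      Fintype.card K = p ^ d ∧ d * Module.finrank K V = n ∧ Nat.card A ∣ p ^ d - 1 ∧
      (centralizer (A : Set G)).index ≤ d ∧ (Module.finrank K V = 1 → Gam G V) := by
  classical
  have := h.nontrivial
  obtain ⟨K, _, _, _, σ, ι, hσ, hι, hker⟩ := exists_field_of_comm h.tr A
  obtain ⟨q, _, ⟨d, hd⟩, hq, hK⟩ := FiniteField.card' K
  rw [PNat.mk_coe] at hK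
  have hVK : p ^ n = q ^ (d * Module.finrank K V) := by
    rw [← h.card, Module.natCard_eq_pow_finrank (K := K), Nat.card_eq_fintype_card, hK, pow_mul]
  have hm0 : 0 < Module.finrank K V := Module.finrank_pos
  obtain rfl : q = p := (Nat.prime_dvd_prime_iff_eq hq h.prime).1
    (hq.dvd_of_dvd_pow (hVK ▸ dvd_pow_self q (Nat.mul_pos hd hm0).ne'))
  have hn : n = d * Module.finrank K V := Nat.pow_right_injective hq.two_le hVK
  refine ⟨K, _, _, _, inferInstance, σ, ι, d, hσ, hι, hker, hK, hn.symm, ?_, ?_, fun hm1 => ?_⟩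
  · rw [← hK, ← Nat.card_eq_fintype_card, ← Nat.card_units]
    exact card_dvd_of_injective ι ((injective_iff_map_eq_one ι).2 fun a ha =>
      Subtype.ext (FaithfulSMul.eq_of_smul_eq_smul (α := V) fun v => by rw [hι, ha]; simp))
  · rw [← hker, index_ker]
    have : Finite (RingAut K) := Finite.of_injective (fun f : RingAut K => (f : K → K))
      DFunLike.coe_injective
    exact (card_le_card_group _).trans (card_ringAut_le hq hK)
  · let e : V ≃ₗ[K] K := LinearEquiv.ofFinrankEq V K (by rw [Module.finrank_self, ← hm1])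
    refine ⟨K, _, inferInstance, e.toAddEquiv, fun g => ⟨e (g • e.symm 1), σ g, fun v => ?_⟩⟩
    change e (g • v) = _ * σ g (e v)
    rw [mul_comm, ← smul_eq_mul, ← map_smul, ← hσ, ← map_smul, smul_eq_mul, mul_one,
      e.symm_apply_apply]

/-- an abelian normal subgroup whose order is divisible by a primitive prime divisor -/
theorem Tr.gam_of_dvd (h : Tr G V p n) {r : ℕ} (hr : Ppd p n r) (A : Subgroup G) [A.Normal]
    [IsMulCommutative A] (hA : r ∣ Nat.card A) : Gam G V := by
  obtain ⟨K, _, _, _, _, σ, ι, d, -, -, -, -, hn, hAd, -, hg⟩ := h.exists_field A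
  refine hg ?_
  by_contra hm
  have h0 := h.pos
  have h1 : 0 < d := Nat.pos_of_ne_zero (by rintro rfl; omega)
  have h2 : 0 < Module.finrank K V := Nat.pos_of_ne_zero (by intro e; rw [e] at hn; omega)
  exact hr.not_dvd d h1 (hn ▸ lt_mul_of_one_lt_right h1 (by omega)) (hA.trans hAd)

end CfsgLib.KgT
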