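import Cfsg.Agent.Lib.KgT.Defs

/-! The class count for one-dimensional semilinear groups. -/

set_option autoImplicit false

namespace CfsgLib.KgT

open Subgroup

namespace GamAux

theorem count {G : Type*} [Group G] [Finite G] (A : Subgroup G) {e t : ℕ} (he : A.index = e + 1)
    (ht : ∀ g, g ∉ A → Nat.card ↥(A ⊓ centralizer ({g} : Set G)) ≤ t) :
    (e + 1) * kk G ≤ Nat.card A + e * (e + 2) * t := by
  classical
  have := Fintype.ofFinite G
  have hA : (Finset.univ.filter fun x : G => x ∈ A).card = Nat.card A :=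
    (Nat.subtype_card _ (by simp)).symm
  have hG : Nat.card G = Nat.card A * (e + 1) := by rw [← he, A.card_mul_index]
  have hB : (Finset.univ.filter fun x : G => ¬ x ∈ A).card = Nat.card A * e := by
    have h := Finset.card_filter_add_card_filter_not (s := Finset.univ) fun x : G => x ∈ A
    rw [hA, Finset.card_univ, ← Nat.card_eq_fintype_card, hG] at h
    have : Nat.card A * (e + 1) = Nat.card A + Nat.card A * e := by ring
    omega
  have h1 : ∑ x ∈ Finset.univ.filter (fun x : G => x ∈ A),
      Nat.card (centralizer ({x} : Set G)) =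
      ∑ x : G, Nat.card ↥(A ⊓ centralizer ({x} : Set G)) := by
    rw [CfsgLib.Fgs.kcl_sum_card_inf_centralizer,
      Finset.sum_subtype (p := fun y => y ∈ A) (Finset.univ.filter fun y => y ∈ A) (by simp)]
    refine Finset.sum_congr (by congr!) fun y _ => ?_
    apply Nat.subtype_card
    intro x
    simp [Subgroup.mem_centralizer_iff, eq_comm]
  have h2 : ∑ x : G, Nat.card ↥(A ⊓ centralizer ({x} : Set G)) ≤
      Nat.card A * Nat.card A + Nat.card A * e * t := by
    rw [← Finset.sum_filter_add_sum_filter_not Finset.univ fun x : G => x ∈ A]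
    refine Nat.add_le_add ?_ ?_
    · refine (Finset.sum_le_card_nsmul _ _ (Nat.card A) fun x _ =>
        card_le_of_le inf_le_left).trans ?_
      rw [hA, smul_eq_mul]
    · refine (Finset.sum_le_card_nsmul _ _ t fun x hx =>
        ht x (Finset.mem_filter.1 hx).2).trans ?_
      rw [hB, smul_eq_mul]
  have h3 : ∑ x ∈ Finset.univ.filter (fun x : G => ¬ x ∈ A),
      Nat.card (centralizer ({x} : Set G)) ≤ Nat.card A * e * ((e + 1) * t) := by
    refine (Finset.sum_le_card_nsmul _ _ ((e + 1) * t) fun x hx => ?_).trans ?_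
    · refine (CfsgLib.Fgs.kcl_card_centralizer_le A x).trans ?_
      rw [he]
      exact Nat.mul_le_mul_left _ (ht x (Finset.mem_filter.1 hx).2)
    · rw [hB, smul_eq_mul]
  have h4 := CfsgLib.Char.sum_card_centralizer (G := G)
  rw [← Finset.sum_filter_add_sum_filter_not Finset.univ fun x : G => x ∈ A, h1, hG] at h4
  refine Nat.le_of_mul_le_mul_left (c := Nat.card A) ?_ Nat.card_pos
  have h5 := Nat.add_le_add h2 h3
  rw [h4] at h5
  calc Nat.card A * ((e + 1) * kk G) = kk G * (Nat.card A * (e + 1)) := by ring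
    _ ≤ _ := h5
    _ = _ := by ring

theorem card_fix {F : Type*} [Field F] [Finite F] (Γ : Subgroup (RingAut F)) :
    Nat.card F = Nat.card (FixedPoints.subfield Γ F) ^ Nat.card Γ := by
  have : Finite (RingAut F) := Finite.of_injective (fun f : RingAut F => (f : F → F))
    DFunLike.coe_injective
  have := Fintype.ofFinite Γ
  rw [Module.natCard_eq_pow_finrank (K := FixedPoints.subfield Γ F) (V := F),
    FixedPoints.finrank_eq_card, Nat.card_eq_fintype_card (α := Γ)]

theorem card_fix_le {F : Type*} [Field F] [Finite F] (Γ : Subgroup (RingAut F)) {τ : RingAut F}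
    (hτ : τ ∈ Γ) (h1 : τ ≠ 1) :
    Nat.card {x : F // τ x = x} ≤ Nat.card (FixedPoints.subfield Γ F) ^ (Nat.card Γ / 2) := by
  have : Finite (RingAut F) := Finite.of_injective (fun f : RingAut F => (f : F → F))
    DFunLike.coe_injective
  have e1 := card_fix Γ
  have e2 := card_fix (zpowers τ)
  obtain ⟨k, hk⟩ := card_dvd_of_le (zpowers_le.2 hτ)
  have ho : 2 ≤ Nat.card (zpowers τ) := by
    rw [Nat.succ_le_iff, one_lt_card_iff_ne_bot]
    simpa using h1
  rw [e1, hk, mul_comm, pow_mul] at e2
  have e3 := Nat.pow_left_injective (by omega) e2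
  have e4 : Nat.card {x : F // τ x = x} ≤ Nat.card (FixedPoints.subfield (zpowers τ) F) := by
    refine Nat.card_le_card_of_injective (fun x => ⟨x.1, fun g => ?_⟩) fun x y e =>
      Subtype.ext (congrArg (fun z : FixedPoints.subfield (zpowers τ) F => (z : F)) e)
    have : (g : RingAut F) ∈ MulAction.stabilizer (RingAut F) x.1 :=
      zpowers_le.2 (MulAction.mem_stabilizer_iff.2 x.2) g.2
    exact this
  refine e4.trans ?_
  rw [← e3]
  refine Nat.pow_le_pow_right Nat.card_pos ?_
  rw [hk, Nat.le_div_iff_mul_le two_pos, mul_comm]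
  exact Nat.mul_le_mul_right _ ho

theorem two_pow (E : ℕ) (hE : 5 ≤ E) : E + 1 < 2 ^ (E - E / 2) := by
  have key : ∀ m : ℕ, 2 * (m + 3) + 1 < 2 ^ (m + 3) := by
    intro m
    induction m with
    | zero => norm_num
    | succ m ih => rw [show m + 1 + 3 = (m + 3) + 1 by ring, pow_succ]; omega
  obtain ⟨m, hm⟩ : ∃ m, E - E / 2 = m + 3 := ⟨E - E / 2 - 3, by omega⟩
  have := key m
  rw [hm]
  omega

theorem numer {p E q0 : ℕ} (hp : p.Prime) (hq : p ∣ q0) (h0 : 0 < q0) (hE : ¬ p ∣ E)
    (h2 : 2 ≤ E) : E + 1 < q0 ^ (E - E / 2) ∨ (E = 2 ∧ q0 = 3) ∨ (E = 3 ∧ q0 = 2) := by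
  have hq2 : 2 ≤ q0 := hp.two_le.trans (Nat.le_of_dvd h0 hq)
  have hne : q0 = 2 → ¬ 2 ∣ E := by
    rintro rfl
    rwa [← (Nat.prime_dvd_prime_iff_eq hp Nat.prime_two).1 hq]
  by_cases h5 : 5 ≤ E
  · exact Or.inl ((two_pow E h5).trans_le (Nat.pow_le_pow_left hq2 _))
  by_cases h3 : q0 = 2
  · have := hne h3
    right; right
    exact ⟨by omega, h3⟩
  have h4 : 3 ≤ q0 := by omega
  have h9 : 9 ≤ q0 ^ 2 := by nlinarith
  obtain rfl | rfl | rfl : E = 2 ∨ E = 3 ∨ E = 4 := by omega
  · by_cases h : q0 = 3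
    · exact Or.inr (Or.inl ⟨rfl, h⟩)
    · left
      norm_num
      omega
  · left
    norm_num
    omega
  · left
    norm_num
    omega

end GamAux

variable {G V : Type*} [Group G] [AddCommGroup V] [DistribMulAction G V] [Finite G] [Finite V]
  [FaithfulSMul G V] {p n : ℕ}

theorem Tr.concl_of_gam (h : Tr G V p n) (hg : Gam G V) : Concl G V := by
  obtain ⟨F, _, _, e, hg⟩ := hg
  have hnt := h.nontrivial
  let _ : Module F V := e.module F
  have hsm : ∀ (c : F) (v : V), e (c • v) = c * e v := fun c v => by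
    change e (e.symm (c • e v)) = _
    rw [e.apply_symm_apply, smul_eq_mul]
  obtain ⟨σ, hσ⟩ := CfsgLib.Perm.exists_ringAut_hom (G := G) (V := V) (K := F) fun g c => by
    obtain ⟨a, τ, hτ⟩ := hg g
    refine ⟨τ c, fun v => e.injective ?_⟩
    rw [hτ, hsm, hsm, hτ, map_mul]
    ring
  set A := σ.ker with hA
  let a : G → F := fun g => e (g • e.symm 1)
  have hv1 : ∀ v : V, v = e v • e.symm 1 := fun v => e.injective (by
    rw [hsm, e.apply_symm_apply, mul_one])
  have ha : ∀ g ∈ A, ∀ v : V, g • v = a g • v := fun g hgA v => by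
    have hg1 : σ g = 1 := hgA
    apply e.injective
    conv_lhs => rw [hv1 v, hσ, hg1]
    rw [hsm, hsm, mul_comm]
    rfl
  have ha0 : ∀ g, a g ≠ 0 := fun g e0 => by
    have e1 : g • e.symm 1 = 0 := by simpa [a] using e0
    have e2 := (smul_eq_zero_iff_eq g).1 e1
    simp at e2
  have hinj : ∀ g ∈ A, ∀ g' ∈ A, a g = a g' → g = g' := fun g hg g' hg' e0 =>
    FaithfulSMul.eq_of_smul_eq_smul (α := V) fun v => by rw [ha g hg, ha g' hg', e0]
  let ι0 : A →* F :=
    { toFun := fun g => a g
      map_one' := by simp [a]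
      map_mul' := fun g g' => by
        change e (((g : G) * g') • e.symm 1) = a g * a g'
        rw [mul_smul, ha g g.2, hsm] }
  have hι : Function.Injective ι0.toHomUnits := fun g g' e0 =>
    Subtype.ext (hinj _ g.2 _ g'.2 (congrArg Units.val e0))
  have hqF : Nat.card V = Nat.card F := Nat.card_congr e.toEquiv
  have hAd : Nat.card A ∣ Nat.card F - 1 := by
    rw [← Nat.card_units]
    exact card_dvd_of_injective _ hι
  have hF2 : 1 < Nat.card F := Finite.one_lt_card
  have hAle : Nat.card A ≤ Nat.card F - 1 := Nat.le_of_dvd (by omega) hAd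
  have hAc : IsCyclic A := isCyclic_of_injective _ hι
  have hE : A.index = Nat.card σ.range := index_ker σ
  have : Finite (RingAut F) := Finite.of_injective (fun f : RingAut F => (f : F → F))
    DFunLike.coe_injective
  have hq := GamAux.card_fix σ.range
  set q0 := Nat.card (FixedPoints.subfield σ.range F) with hq0
  rw [← hE] at hq
  have hpq : p ∣ q0 := by
    refine h.prime.dvd_of_dvd_pow (n := A.index) ?_
    rw [← hq, ← hqF, h.card]
    exact dvd_pow_self p h.pos.ne'
  have hpE : ¬ p ∣ A.index := fun hd => h.cop (hd.trans A.index_dvd_card)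
  have hq0pos : 0 < q0 := Nat.card_pos
  -- centralizers in `A`
  have hcent : ∀ g, g ∉ A → Nat.card ↥(A ⊓ centralizer ({g} : Set G)) ≤ q0 ^ (A.index / 2) - 1 := by
    intro g hgA
    have h1 := GamAux.card_fix_le σ.range (τ := σ g) ⟨g, rfl⟩ hgA
    rw [← hE, ← hq0] at h1
    have hfix : ∀ u : ↥(A ⊓ centralizer ({g} : Set G)), σ g (a u) = a u := fun u => by
      obtain ⟨v, hv⟩ := exists_ne (0 : V)
      have hc : g * u = u * g := mem_centralizer_iff.1 u.2.2 g rfl
      refine smul_left_injective F ((smul_ne_zero_iff_ne g).2 hv) ?_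
      change σ g (a u) • g • v = a u • g • v
      rw [← hσ, ← ha _ u.2.1, ← ha _ u.2.1, ← mul_smul, hc, mul_smul]
    let f : Option ↥(A ⊓ centralizer ({g} : Set G)) → {x : F // σ g x = x} := fun o =>
      o.elim ⟨0, map_zero _⟩ fun u => ⟨a u, hfix u⟩
    have hf : Function.Injective f := by
      rintro (_ | u) (_ | u') e0
      · rfl
      · exact absurd (congrArg Subtype.val e0).symm (ha0 _)
      · exact absurd (congrArg Subtype.val e0) (ha0 _)
      · exact congrArg some (Subtype.ext (hinj _ u.2.1 _ u'.2.1 (congrArg Subtype.val e0)))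
    have h2 := Nat.card_le_card_of_injective f hf
    rw [Finite.card_option] at h2
    omega
  intro v hv
  have hS : kk (MulAction.stabilizer G v) ≤ A.index := by
    refine (kk_le _).trans ?_
    rw [hE]
    refine Nat.card_le_card_of_injective
      (σ.rangeRestrict.comp (MulAction.stabilizer G v).subtype)
      ((injective_iff_map_eq_one _).2 fun s hs => ?_)
    have hsA : (s : G) ∈ A := congrArg Subtype.val hs
    have e1 : a s • v = (1 : F) • v := by
      rw [← ha _ hsA, one_smul]
      exact s.2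
    have e2 := smul_left_injective F hv e1
    exact Subtype.ext (hinj _ hsA _ A.one_mem (by simpa [a] using e2))
  have hGA := A.card_mul_index
  obtain ⟨E, hE1⟩ : ∃ E, A.index = E + 1 :=
    ⟨A.index - 1, by have := A.index_ne_zero_of_finite; omega⟩
  have hcount := GamAux.count A hE1 hcent
  rw [hqF]
  rcases Nat.eq_zero_or_pos E with rfl | hE0
  · have hT : A = ⊤ := index_eq_one.1 hE1
    refine ⟨by omega, fun _ => Or.inl ?_⟩
    rw [hT] at hAc
    exact isCyclic_of_surjective _ (topEquiv (G := G)).surjective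
  have hdvd := h.dvd
  rw [← h.card, hqF] at hdvd
  rw [hE1] at hq hS hcount hGA hpE
  obtain ⟨t, ht⟩ : ∃ t, q0 ^ ((E + 1) / 2) = t + 1 :=
    ⟨q0 ^ ((E + 1) / 2) - 1, by have := pow_pos hq0pos ((E + 1) / 2); omega⟩
  rw [ht, Nat.add_sub_cancel] at hcount
  rcases GamAux.numer h.prime hpq hq0pos hpE (by omega) with hlt | ⟨h1, h2⟩ | ⟨h1, h2⟩
  · have hqq : Nat.card F = q0 ^ (E + 1 - (E + 1) / 2) * (t + 1) := by
      rw [hq, ← ht, ← pow_add]
      congr 1
      omega
    have h3 : (E + 2) * (t + 1) < Nat.card F := by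
      rw [hqq]
      exact Nat.mul_lt_mul_of_pos_right hlt (by omega)
    have h4 : kk G + kk (MulAction.stabilizer G v) < Nat.card F := by
      refine Nat.lt_of_mul_lt_mul_left (a := E + 1) ?_
      have h5 := Nat.mul_le_mul_left (E + 1) hS
      have h6 := Nat.mul_lt_mul_of_pos_left h3 hE0
      have h7 : Nat.card A + 1 ≤ Nat.card F := by omega
      nlinarith
    exact ⟨h4.le, fun e0 => absurd e0 h4.ne⟩
  · obtain rfl : E = 1 := by omega
    rw [h2] at hq ht
    norm_num at hq ht
    obtain rfl : t = 2 := by omega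
    rw [← Nat.card_eq_fintype_card] at hq
    rw [hq] at hAle ⊢
    exact ⟨by omega, fun e0 => Or.inr (Or.inr ⟨rfl, by omega⟩)⟩
  · obtain rfl : E = 2 := by omega
    rw [h2] at hq ht
    norm_num at hq ht
    obtain rfl : t = 1 := by omega
    rw [← Nat.card_eq_fintype_card] at hq
    rw [hq] at hAle hdvd ⊢
    have := Nat.card_pos (α := A)
    exact ⟨by omega, fun e0 => Or.inr (Or.inl ⟨rfl, by omega⟩)⟩

end CfsgLib.KgT
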