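import Cfsg.Agent.Lib.KgT.Fld
import Cfsg.Agent.Lib.Dickson.Main
import Cfsg.Agent.Lib.KCl.Alt
import Cfsg.Agent.Lib.KGV.Basic
import Cfsg.Agent.S4473

/-! Dimension two. -/

set_option autoImplicit false
set_option maxRecDepth 100000

namespace CfsgLib.KgT

open Subgroup Equiv Equiv.Perm
open scoped MatrixGroups

theorem two_A4 : kk (alternatingGroup (Fin 4)) ≤ 5 :=
  (KCl.card_alt_le (by decide) [(1, swap 0 1), (c[0, 1, 2], swap 0 1), (c[0, 1] * c[2, 3], swap 0 1)] (by simp)
    (by decide +kernel)).trans (by decide +kernel)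

theorem two_A5 : kk (alternatingGroup (Fin 5)) ≤ 5 :=
  (KCl.card_alt_le (by decide) [(1, swap 0 1), (c[0, 1, 2], swap 3 4), (c[0, 1] * c[2, 3], swap 0 1),
    (c[0, 1, 2, 3, 4], swap 0 1)] (by simp) (by decide +kernel)).trans (by decide +kernel)

theorem two_S4 : kk (Perm (Fin 4)) ≤ 5 := by
  have h := card_comm_eq_card_conjClasses_mul_card (Perm (Fin 4))
  have h1 : Fintype.card {p : Perm (Fin 4) × Perm (Fin 4) // p.1 * p.2 = p.2 * p.1} = 120 := by decide +kernel
  rw [← Nat.card_eq_fintype_card] at h1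
  rw [Nat.card_perm, Nat.card_fin] at h
  have := h1.symm.trans h
  simp only [Nat.factorial] at this
  unfold kk
  omega

variable {G V : Type*} [Group G] [AddCommGroup V] [DistribMulAction G V] [Finite G] [Finite V]
  [FaithfulSMul G V] {p : ℕ}

theorem Tr.two (h : Tr G V p 2) (hρ : HasRep G 2)
    (hZ : Nat.card (Subgroup.center G) ∣ p - 1) : Gam G V ∨ Lt G V := by
  obtain ⟨ρ, hρ⟩ := hρ
  have hp := h.prime.two_le
  obtain ⟨r, rfl⟩ : ∃ r, p = r + 1 := ⟨p - 1, by omega⟩
  have hsq : (r + 1) ^ 2 - 1 = r * (r + 2) := Nat.sub_eq_of_eq_add (by ring)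
  let f : G →* PGL(2, ℂ) := Matrix.ProjGenLinGroup.mk.comp ρ.toHomUnits
  have hk : f.rangeRestrict.ker ≤ center G := fun z hz => by
    rw [MonoidHom.ker_rangeRestrict] at hz
    have h1 := mem_center_iff.1 (Matrix.ProjGenLinGroup.mk_eq_one.1 hz)
    exact mem_center_iff.2 fun g => hρ (by
      rw [map_mul, map_mul]
      exact congrArg Units.val (h1 (ρ.toHomUnits g)))
  have hs := f.rangeRestrict_surjective
  have key : ∀ B : Subgroup G, IsMulCommutative B → B.index = 1 ∨ B.index = 2 → Gam G V := fun B hB hi => by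
    have : B.Normal := hi.elim (fun e => index_eq_one.1 e ▸ inferInstance) B.normal_of_index_eq_two
    obtain ⟨K, _, _, _, _, σ, ι, d, -, -, -, -, h1, h2, -, h3⟩ := h.exists_field B
    refine h3 (by_contra fun hm => ?_)
    have h4 : d = 1 := by
      have := (Nat.dvd_prime Nat.prime_two).1 ⟨_, (mul_comm _ _).trans h1 |>.symm⟩
      rw [this.resolve_left hm] at h1
      omega
    rw [h4, pow_one, Nat.add_sub_cancel] at h2
    have h5 := Nat.le_of_dvd (by omega) h2
    have h6 := Nat.le_of_dvd Nat.card_pos h.dvd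
    rw [← B.card_mul_index, hsq] at h6
    rcases hi with e | e <;> rw [e] at h6 <;> nlinarith
  have fin : ∀ M, Nat.card f.range = M → kk f.range ≤ 5 → M = 12 ∨ M = 24 ∨ M = 60 → Lt G V := fun M h1 h2 h3 v hv => by
    have e := QuotientGroup.quotientKerEquivOfSurjective _ hs
    have a1 := Fgs.card_conjClasses_le_mul_quotient f.rangeRestrict.ker
    rw [KGV.card_conjClasses_congr e] at a1
    have a2 := kk_le f.rangeRestrict.ker
    have a3 := Nat.le_of_dvd (by omega) ((card_dvd_of_le hk).trans hZ)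
    have a4 := f.rangeRestrict.ker.card_mul_index
    have a5 : M ∣ Nat.card G := by
      rw [← a4, index, Nat.card_congr e.toEquiv, h1]
      exact dvd_mul_left _ _
    rw [index, Nat.card_congr e.toEquiv, h1, h.card_eq hv, hsq] at a4
    have a6 := kk_le (MulAction.stabilizer G v)
    rw [h.card]
    unfold kk at *
    generalize Nat.card (MulAction.stabilizer G v) = s at *
    generalize Nat.card f.rangeRestrict.ker = z at *
    rw [Nat.add_sub_cancel] at a3
    have a7 : Nat.card (ConjClasses G) ≤ r * 5 := a1.trans (Nat.mul_le_mul (a2.trans a3) h2)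
    have a8 : (r + 2) * s ≤ M := Nat.le_of_mul_le_mul_left (by
      rw [← mul_assoc, ← a4]
      exact Nat.mul_le_mul_right _ a3) (by omega : 0 < r)
    have a9 : ¬ r + 1 ∣ M := fun hd => h.cop (hd.trans a5)
    have b1 : r ≠ 1 := by rintro rfl; omega
    have b2 : r ≠ 2 := by rintro rfl; omega
    have b3 : r ≠ 3 := by rintro rfl; exact absurd h.prime (by norm_num)
    have b5 : r ≠ 5 := by rintro rfl; exact absurd h.prime (by norm_num)
    rcases eq_or_ne r 4 with rfl | b4
    · omega
    · have c1 : 6 ≤ r := by omega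
      have c2 := (Nat.mul_le_mul_right s (by omega : 8 ≤ r + 2)).trans a8
      have c3 : s ≤ 7 := by omega
      nlinarith
  have := Finite.of_surjective _ hs
  rcases Dickson.dickson_charZero f.range with h1 | ⟨m, ⟨e⟩⟩ | ⟨⟨e⟩⟩ | ⟨⟨e⟩⟩ | ⟨⟨e⟩⟩
  · obtain ⟨r, hr⟩ := h1.exists_generator
    exact .inl (key _ (Cfsg.Agent.S4473.comm_of_cyc _ hk r) (.inl (by rw [(eq_top_iff' _).2 hr, comap_top, index_top])))
  · obtain ⟨r, s, h1⟩ := DihSyl.exists_isDih (D := (⊤ : Subgroup f.range)) (topEquiv.trans e)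
    exact .inl (key _ (Cfsg.Agent.S4473.comm_of_cyc _ hk r) (.inr (by
      rw [index_comap_of_surjective _ hs, ← relIndex_top_right, h1.relIndex_zpowers])))
  · exact .inr (fin 12 (by rw [Nat.card_congr e.toEquiv, nat_card_alternatingGroup]; simp [Nat.factorial])
      ((KGV.card_conjClasses_congr e).trans_le two_A4) (by omega))
  · exact .inr (fin 24 (by rw [Nat.card_congr e.toEquiv, Nat.card_perm]; simp [Nat.factorial])
      ((KGV.card_conjClasses_congr e).trans_le two_S4) (by omega))
  · exact .inr (fin 60 (by rw [Nat.card_congr e.toEquiv, nat_card_alternatingGroup]; simp [Nat.factorial])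
      ((KGV.card_conjClasses_congr e).trans_le two_A5) (by omega))

end CfsgLib.KgT
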