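import Cfsg.Agent.Lib.KgT.Zs
import Cfsg.Agent.Lib.KgT.Lift
import Cfsg.Agent.Lib.KgT.Gam
import Cfsg.Agent.Lib.KgT.Two
import Cfsg.Agent.Lib.KgT.E81
import Cfsg.Agent.S3430
import Cfsg.Agent.S0205

/-! The class number of `VG` for `G` transitive on the non-zero vectors of `V`. -/

set_option autoImplicit false

namespace CfsgLib.KgT

open Subgroup CfsgLib.Perm

variable {G V : Type*} [Group G] [AddCommGroup V] [DistribMulAction G V] [Finite G] [Finite V]
  [FaithfulSMul G V] {p n r : ℕ}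

theorem Tr.frame (h : Tr G V p n) (A : Subgroup G) [A.Normal] [IsMulCommutative A] :
    ∃ d m, d * m = n ∧ Nat.card A ∣ p ^ d - 1 ∧ (centralizer (A : Set G)).index ≤ d ∧
      (m = 1 → Gam G V) ∧ HasRep (centralizer (A : Set G)) m := by
  obtain ⟨K, _, _, _, _, σ, ι, d, hσ, -, hker, -, hn, hA, hi, hg⟩ := h.exists_field A
  have := Fact.mk h.prime
  refine ⟨d, _, hn, hA, hi, hg, ?_⟩
  let ρ : Representation K (centralizer (A : Set G)) V :=
    { toFun := fun g =>
        { toFun := fun v => g.1 • v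
          map_add' := smul_add g.1
          map_smul' := fun c v => by rw [hσ, (hker.ge g.2 : σ g.1 = 1)]; rfl }
      map_one' := LinearMap.ext fun v => one_smul G v
      map_mul' := fun a b => LinearMap.ext fun v => mul_smul a.1 b.1 v }
  exact hasRep_of_rep p (fun e => h.cop (e.trans (card_subgroup_dvd_card _))) ρ fun a b e =>
    Subtype.ext (FaithfulSMul.eq_of_smul_eq_smul (α := V) fun v => LinearMap.congr_fun e v)

theorem Tr.frame_center (h : Tr G V p n) :
    ∃ d m, d * m = n ∧ Nat.card (center G) ∣ p ^ d - 1 ∧ (m = 1 → Gam G V) ∧ HasRep G m := by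
  obtain ⟨d, m, h1, h2, -, h3, h4⟩ := h.frame (center G)
  refine ⟨d, m, h1, h2, h3, h4.of_inj ((MonoidHom.id G).codRestrict _ fun g z hz =>
    (mem_center_iff.1 hz g).symm) fun a b e => congrArg Subtype.val e⟩

theorem le_of_mul {d m : ℕ} (h : d * m = n) (hn : 0 < n) : m ≤ n ∧ d ≤ n :=
  ⟨Nat.le_of_dvd hn ⟨d, by rw [← h, mul_comm]⟩, Nat.le_of_dvd hn ⟨m, h.symm⟩⟩

theorem Tr.gam_of_sq (h : Tr G V p n) (hr : Ppd p n r) (h2 : r ^ 2 ∣ Nat.card G) : Gam G V := by
  have := Fact.mk hr.prime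
  obtain ⟨d, m, h1, -, -, hρ⟩ := h.frame_center
  obtain ⟨P⟩ : Nonempty (Sylow r G) := inferInstance
  have h3 : r ^ 2 ∣ Nat.card P := P.pow_dvd_card_of_pow_dvd_card h2
  have h4 := hr.succ_le h.prime.pos h.pos
  have h5 := (le_of_mul h1 h.pos).1
  have := hρ.ti (h.cab hr) P ((Nat.pow_le_pow_left (by omega) 2).trans
    (Nat.le_of_dvd Nat.card_pos h3))
  exact h.gam_of_pgroup hr P P.2 ((dvd_pow_self r two_ne_zero).trans h3)

theorem Tr.key (h : Tr G V p n) (hr : Ppd p n r) (h2 : ¬ r ^ 2 ∣ Nat.card G) (C : Subgroup G)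
    [C.Normal] (hC : C.index ≤ n) (hC0 : C.index ≠ 0) {m : ℕ} (hρ : HasRep C m)
    (hm : 2 * m + 1 ≤ r) :
    Gam G V ∨ (r = 2 * m + 1 ∧ (center C).index * 2 = (r + 1) * (r * (r - 1))) := by
  have := Fact.mk hr.prime
  have h4 := hr.succ_le h.prime.pos h.pos
  have h1 : r ∣ Nat.card C := ((Nat.Prime.dvd_mul hr.prime).1
    (C.card_mul_index ▸ hr.dvd.trans h.dvd)).resolve_right fun e => by
      have := Nat.le_of_dvd (Nat.pos_of_ne_zero hC0) e
      omega
  have h3 : ¬ r ^ 2 ∣ Nat.card C := fun e => h2 (e.trans C.card_subgroup_dvd_card)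
  refine (hρ.brauer hr.prime h1 h3 hm).imp_left ?_
  rintro ⟨N, hN, hc⟩
  have hp : IsPGroup r N := IsPGroup.of_card (n := 1) (by rw [hc, pow_one])
  obtain ⟨Q, hQ⟩ := hp.exists_le_sylow
  obtain ⟨j, hj⟩ := IsPGroup.iff_card.1 Q.2
  have hj1 : j ≤ 1 := by
    by_contra hj1
    exact h3 ((pow_dvd_pow r (by omega)).trans (hj ▸ card_subgroup_dvd_card _))
  have e : N = Q := eq_of_le_of_card_ge hQ (by
    rw [hj, hc]; exact (Nat.pow_le_pow_right hr.prime.pos hj1).trans (pow_one r).le)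
  have := Q.characteristic_of_normal (e ▸ hN)
  refine h.gam_of_pgroup hr ((Q : Subgroup C).map C.subtype) (Q.2.map _) ?_
  rw [card_map_of_injective C.subtype_injective, ← e, hc]

/-- a large prime divisor of the group order gives an abelian normal subgroup -/
theorem Tr.large (h : Tr G V p n) {s : ℕ} (hs : s.Prime) (h1 : s ∣ Nat.card G) (h0 : n + 1 < s)
    (hm : 2 * n + 1 ≤ s) (h3 : s = 2 * n + 1 → ¬ 3 ∣ Nat.card G) :
    ∃ A : Subgroup G, A.Normal ∧ IsMulCommutative A ∧ s ∣ Nat.card A := by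
  have := Fact.mk hs
  obtain ⟨d, m, h2, -, -, hρ⟩ := h.frame_center
  have h5 := (le_of_mul h2 h.pos).1
  obtain ⟨P⟩ : Nonempty (Sylow s G) := inferInstance
  have := hρ.normal (by omega) (by omega) (fun e => h3 (by omega)) P
  have : Nontrivial (P : Subgroup G) := (nontrivial_iff_ne_bot _).2 (P.ne_bot_of_dvd_card h1)
  have := P.2.center_nontrivial
  refine ⟨(center (P : Subgroup G)).map (P : Subgroup G).subtype, inferInstance, inferInstance, ?_⟩
  rw [card_map_of_injective (Subgroup.subtype_injective _)]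
  obtain ⟨k, hk, e⟩ := (P.2.to_subgroup (center _)).nontrivial_iff_card.1 this
  exact e ▸ dvd_pow_self s hk.ne'

theorem Tr.six (h : Tr G V p 6) (hr : Ppd p 6 7) {s : ℕ} (hs : s.Prime) (h1 : s ∣ p ^ 6 - 1)
    (hm : 13 ≤ s) (h3 : s = 13 → p = 3) (h4 : ¬ s ∣ p ^ 2 - 1) (h5 : ¬ s ∣ p ^ 1 - 1) :
    Gam G V := by
  by_cases h2 : 7 ^ 2 ∣ Nat.card G
  · exact h.gam_of_sq hr h2
  obtain ⟨A, _, _, hA⟩ := h.large hs (h1.trans h.dvd) (by omega) hm fun e => h3 e ▸ h.cop
  obtain ⟨d, m, e, hd, hi, -, hρ⟩ := h.frame A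
  have h6 := le_of_mul e h.pos
  have h7 : 3 ≤ d := by
    by_contra h7
    have := hA.trans hd
    interval_cases d
    · omega
    · exact h5 this
    · exact h4 this
  have h8 : m ≤ 2 := by nlinarith
  exact (h.key hr h2 _ (hi.trans h6.2) index_ne_zero_of_finite hρ (by omega)).resolve_right
    fun e => by omega

theorem Tr.four (h : Tr G V 3 4) : Gam G V ∨ Lt G V := by
  have hr : Ppd 3 4 5 := ⟨by norm_num, by norm_num, fun i _ _ => by interval_cases i <;> decide⟩
  by_cases h2 : 5 ^ 2 ∣ Nat.card G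
  · exact Or.inl (h.gam_of_sq hr h2)
  obtain ⟨a, u, hu, e⟩ := Nat.exists_eq_pow_mul_and_not_dvd (Nat.card_pos (α := G)).ne' 2
    (by norm_num)
  have hu0 : u ≠ 0 := by rintro rfl; exact hu (dvd_zero 2)
  have h5 : ∀ {t : ℕ}, t.Prime → t ∣ u → t = 5 := by
    intro t ht htu
    have hG : t ∣ Nat.card G := e ▸ htu.mul_left _
    have := Fact.mk ht
    obtain ⟨x, hx⟩ := exists_prime_orderOf_dvd_card' t hG
    obtain ⟨j, hj, -, hd⟩ := h.exists_fx ht hx
    have h3 : t ≠ 3 := by rintro rfl; exact h.cop hG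
    have h4 : t ≠ 2 := by rintro rfl; exact hu htu
    have h13 : t ≠ 13 := by
      rintro rfl
      obtain ⟨A, _, _, hA⟩ := h.large ht hG (by norm_num) (by norm_num) (by norm_num)
      obtain ⟨d, m, e, hd, -⟩ := h.frame A
      have h6 := (le_of_mul e h.pos).2
      have := hA.trans hd
      interval_cases d <;> omega
    have h6 : t ∣ 2 ^ 4 * (3 ^ 3 * (5 * 13)) := by
      refine hd.trans ?_
      interval_cases j <;> norm_num
    simp only [ht.dvd_mul] at h6
    rcases h6 with h6 | h6 | h6 | h6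
    · exact absurd ((Nat.prime_dvd_prime_iff_eq ht (by norm_num)).1 (ht.dvd_of_dvd_pow h6)) h4
    · exact absurd ((Nat.prime_dvd_prime_iff_eq ht (by norm_num)).1 (ht.dvd_of_dvd_pow h6)) h3
    · exact (Nat.prime_dvd_prime_iff_eq ht (by norm_num)).1 h6
    · exact absurd ((Nat.prime_dvd_prime_iff_eq ht (by norm_num)).1 h6) h13
  have h6 := Nat.eq_prime_pow_of_unique_prime_dvd hu0 h5
  generalize u.primeFactorsList.length = b at h6
  have h7 : 5 ∣ Nat.card G := hr.dvd.trans h.dvd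
  have hb : b = 1 := by
    rcases Nat.lt_trichotomy b 1 with hb | hb | hb
    · obtain rfl : b = 0 := by omega
      rw [e, h6, pow_zero, mul_one] at h7
      exact absurd (Nat.prime_five.dvd_of_dvd_pow h7) (by norm_num)
    · exact hb
    · exact absurd (e ▸ h6 ▸ (pow_dvd_pow 5 hb).mul_left _) h2
  exact h.e81 (a := a) (by rw [e, h6, hb, pow_one])

theorem arith_big {n : ℕ} (hn : 6 ≤ n) : (n + 1) * ((2 * n + 1) * (2 * n)) < 5 ^ (n - 1) := by
  induction n, hn using Nat.le_induction with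
  | base => norm_num
  | succ n hn ih =>
    obtain ⟨k, rfl⟩ : ∃ k, n = k + 1 := ⟨n - 1, by omega⟩
    rw [Nat.add_sub_cancel] at ih ⊢
    rw [pow_succ]
    nlinarith [Nat.zero_le (k ^ 3), Nat.zero_le (k ^ 2)]

theorem arith_psl {i : ℕ} (hp : 5 ≤ p) (hn : 3 ≤ n) (hr : (2 * n + 1).Prime)
    (hi : i * 2 = (2 * n + 1 + 1) * ((2 * n + 1) * (2 * n + 1 - 1)))
    (hd : p ^ n - 1 ∣ (p - 1) * i) : False := by
  have h1 : i = (n + 1) * ((2 * n + 1) * (2 * n)) := by
    rw [Nat.add_sub_cancel] at hi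
    nlinarith
  have h2 : p ^ n - 1 = (p - 1) * ∑ j ∈ Finset.range n, p ^ j := by
    rw [mul_comm, Nat.geomSum_eq (by omega), Nat.div_mul_cancel (Nat.sub_one_dvd_pow_sub_one p n)]
  rw [h2] at hd
  have h3 := Nat.dvd_of_mul_dvd_mul_left (by omega) hd
  have h4 := Nat.le_of_dvd (by rw [h1]; positivity) h3
  by_cases h6 : 6 ≤ n
  · have h5 : p ^ (n - 1) ≤ ∑ j ∈ Finset.range n, p ^ j :=
      Finset.single_le_sum (f := fun j => p ^ j) (fun _ _ => Nat.zero_le _)
        (Finset.mem_range.2 (by omega))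
    have := arith_big h6
    have := Nat.pow_le_pow_left hp (n - 1)
    omega
  subst h1
  interval_cases n
  · simp only [Finset.sum_range_succ, Finset.range_zero, Finset.sum_empty] at h3 h4
    have : p ≤ 12 := by nlinarith
    interval_cases p <;> omega
  · norm_num at hr
  · simp only [Finset.sum_range_succ, Finset.range_zero, Finset.sum_empty] at h4
    have := Nat.pow_le_pow_left hp 4
    have := Nat.pow_le_pow_left hp 3
    omega

theorem Tr.gam_of_big (h : Tr G V p n) (hn : 3 ≤ n) (hp : p ≠ 2) (hr : Ppd p n r)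
    (h1 : n + 1 < r) (h2 : ¬ r ^ 2 ∣ Nat.card G) : Gam G V := by
  obtain ⟨c, hc⟩ := hr.dvd_sub_one h.prime.pos h.pos
  have h3 : 2 * n + 1 ≤ r := by
    rcases c with _ | _ | c
    · omega
    · omega
    · have : n * (c + 1 + 1) = n * c + 2 * n := by ring
      omega
  obtain ⟨d, m, e, hZ, -, hρ⟩ := h.frame_center
  have h4 := (le_of_mul e h.pos).1
  have := Fact.mk hr.prime
  rcases hρ.brauer hr.prime (hr.dvd.trans h.dvd) h2 (by omega) with ⟨N, _, hN⟩ | ⟨h5, h6⟩
  · exact h.gam_of_pgroup hr N (IsPGroup.of_card (n := 1) (by rw [hN, pow_one])) hN.symm.dvd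
  exfalso
  obtain rfl : m = n := by omega
  obtain rfl : d = 1 := Nat.eq_of_mul_eq_mul_right h.pos (by rw [e, one_mul])
  have hp3 : p ≠ 3 := by
    rintro rfl
    exact h.cop (three_dvd_of_index hr.prime.pos h6)
  subst h5
  refine arith_psl (h.prime.five_le_of_ne_two_of_ne_three hp hp3) hn hr.prime h6 (h.dvd.trans ?_)
  rw [← (center G).card_mul_index]
  exact Nat.mul_dvd_mul_right (by rwa [pow_one] at hZ) _

theorem Tr.gam_or_lt (h : Tr G V p n) : Gam G V ∨ Lt G V := by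
  have := h.nontrivial
  by_cases hp : p = 2
  · subst hp
    have := Cfsg.Agent.S0205.result (G := G) (Nat.odd_iff.2 (Nat.two_dvd_ne_zero.1 h.cop))
    refine Or.inl ((huppert h.tr h.prime h.card).resolve_right ?_)
    rintro ⟨A, E, -, -, h2, -⟩
    exact h.cop (h2.trans A.card_subgroup_dvd_card)
  by_cases hn : n ≤ 2
  · obtain ⟨d, m, e, hZ, hg, hρ⟩ := h.frame_center
    by_cases hm : m = 1
    · exact Or.inl (hg hm)
    have h1 := le_of_mul e h.pos
    have h0 := h.pos
    have h2 : m ≠ 0 := by rintro rfl; omega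
    obtain rfl : m = 2 := by omega
    obtain rfl : d = 1 := by omega
    obtain rfl : n = 2 := by omega
    exact h.two hρ (by rwa [pow_one] at hZ)
  by_cases h3 : p = 3 ∧ (n = 4 ∨ n = 6)
  · obtain ⟨rfl, rfl | rfl⟩ := h3
    · exact h.four
    · exact Or.inl (h.six ⟨by norm_num, by norm_num, fun i _ _ => by interval_cases i <;> decide⟩
        (s := 13) (by norm_num) (by norm_num) le_rfl (fun _ => rfl) (by norm_num) (by norm_num))
  by_cases h5 : p = 5 ∧ n = 6
  · obtain ⟨rfl, rfl⟩ := h5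
    exact Or.inl (h.six ⟨by norm_num, by norm_num, fun i _ _ => by interval_cases i <;> decide⟩
      (s := 31) (by norm_num) (by norm_num) (by norm_num) (by norm_num) (by norm_num)
      (by norm_num))
  obtain ⟨r, hr, h6, h7, h8⟩ := Cfsg.Agent.S3430.result p n h.prime.two_le (by omega)
    (fun e => hn e.1.le) (fun e => hp e.1) h3 h5
  have hr' : Ppd p n r := ⟨hr, h6, h7⟩
  by_cases h2 : r ^ 2 ∣ Nat.card G
  · exact Or.inl (h.gam_of_sq hr' h2)
  · exact Or.inl (h.gam_of_big (by omega) hp hr' (h8.resolve_right fun e => h2 (e.trans h.dvd)) h2)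

theorem Tr.concl (h : Tr G V p n) : Concl G V :=
  h.gam_or_lt.elim h.concl_of_gam Lt.concl

end CfsgLib.KgT
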