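import Cfsg.Agent.Lib.KgT.Defs
import Cfsg.Agent.S0899
import Cfsg.Agent.S4503
import Cfsg.Agent.S4504
import Cfsg.Agent.Lib.Dickson.Full

/-! Normal Sylow subgroups of complex linear groups of small degree. -/

set_option autoImplicit false

namespace CfsgLib.KgT

open Cfsg CfsgLib.Char CfsgLib.InvChar Finset Matrix MatrixGroups

universe u

theorem HasRep.rep {H : Type*} [Group H] {m : ℕ} (h : HasRep H m) :
    ∃ ρ : Representation ℂ H (Fin m → ℂ), Function.Injective ρ := by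
  obtain ⟨ρ, hρ⟩ := h
  exact ⟨(Matrix.toLinAlgEquiv' (R := ℂ) (n := Fin m)).toMonoidHom.comp ρ,
    (Matrix.toLinAlgEquiv' (R := ℂ) (n := Fin m)).injective.comp hρ⟩

theorem HasRep.char {H : Type*} [Group H] [Finite H] {m : ℕ} (h : HasRep H m) :
    ∃ χ : H → ℂ, IsCharacter H χ ∧ (∀ g, χ g = χ 1 → g = 1) ∧ charDegree χ = m := by
  obtain ⟨ρ, hρ⟩ := h.rep
  refine ⟨ρ.character, isCharacter_of_rep ρ, fun g hg => hρ ?_, ?_⟩
  · rw [map_one, ← MonoidHom.mem_ker, ← char_eq_one_iff_mem_ker, hg]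
  · simp [charDegree]

/-- centralizers of elements of order `r` are abelian -/
def CAb (H : Type*) [Group H] (r : ℕ) : Prop :=
  ∀ x : H, orderOf x = r → ∀ a b : H, Commute a x → Commute b x → Commute a b

theorem CAb.sub {H : Type*} [Group H] {r : ℕ} (h : CAb H r) (L : Subgroup H) : CAb L r :=
  fun x hx a b ha hb => Subtype.ext (h x (by rw [Subgroup.orderOf_coe, hx]) a b
    (congrArg Subtype.val ha) (congrArg Subtype.val hb))

theorem CAb.of_mem {H : Type*} [Group H] [Finite H] {r : ℕ} [hr : Fact r.Prime] (h : CAb H r)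
    {Q : Subgroup H} (hQ : IsPGroup r Q) {x : H} (hx : x ∈ Q) (hx1 : x ≠ 1) {a b : H}
    (ha : Commute a x) (hb : Commute b x) : Commute a b := by
  obtain ⟨k, hk⟩ := (IsPGroup.iff_orderOf.1 hQ) ⟨x, hx⟩
  rw [Subgroup.orderOf_mk] at hk
  have hd : r ∣ orderOf x := by
    rw [hk]
    refine dvd_pow_self _ ?_
    rintro rfl
    exact hx1 (orderOf_eq_one_iff.1 (by simpa using hk))
  exact h _ (orderOf_pow_orderOf_div (orderOf_pos x).ne' hd) a b (ha.pow_right _) (hb.pow_right _)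

theorem CAb.comm {H : Type*} [Group H] [Finite H] {r : ℕ} [hr : Fact r.Prime] (h : CAb H r)
    {Q : Subgroup H} (hQ : IsPGroup r Q) {a b : H} (ha : a ∈ Q) (hb : b ∈ Q) : Commute a b := by
  by_cases h1 : Q = ⊥
  · subst h1
    rw [Subgroup.mem_bot.1 ha]
    exact Commute.one_left _
  have : Nontrivial Q := (Subgroup.nontrivial_iff_ne_bot Q).2 h1
  have := hQ.center_nontrivial
  obtain ⟨z, hz⟩ := exists_ne (1 : Subgroup.center Q)
  refine h.of_mem hQ z.1.2 (fun e => hz (Subtype.ext (Subtype.ext e))) ?_ ?_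
  · exact congrArg Subtype.val (Subgroup.mem_center_iff.1 z.2 ⟨a, ha⟩)
  · exact congrArg Subtype.val (Subgroup.mem_center_iff.1 z.2 ⟨b, hb⟩)

theorem ti_aux (m r : ℕ) [hr : Fact r.Prime] (N : ℕ) : ∀ (G : Type u) [Group G] [Finite G],
    Nat.card G = N → HasRep G m → CAb G r → ∀ P : Sylow r G, (m + 1) ^ 2 ≤ Nat.card P →
    (P : Subgroup G).Normal := by
  induction N using Nat.strong_induction_on with
  | _ N ih =>
  intro G _ _ hN hρ hC P hP
  classical
  have := Fintype.ofFinite G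
  by_contra hPn
  have hB : ∀ H : Subgroup G, H ≠ ⊤ → ∀ Q R : Sylow r G, (Q : Subgroup G) ≤ H →
      (R : Subgroup G) ≤ H → Q = R := by
    intro H hH Q R hQ hR
    have h1 : ((Q.subtype hQ : Sylow r H) : Subgroup H).Normal := by
      refine ih _ (hN ▸ lt_of_le_of_ne H.card_le_card_group
        fun h => hH (H.eq_top_of_card_eq h)) H rfl (hρ.sub H) (hC.sub H) _ ?_
      rw [Sylow.coe_subtype, Nat.card_congr (Subgroup.subgroupOfEquivOfLe hQ).toEquiv,
        Nat.card_congr (Sylow.equiv Q P).toEquiv]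
      exact hP
    have := Sylow.unique_of_normal _ h1
    exact Sylow.subtype_injective (Subsingleton.elim (Q.subtype hQ) (R.subtype hR))
  have hnc : ¬ ∀ a b : G, Commute a b := fun h => hPn ⟨fun x hx g => by
    rwa [(h g x).eq, mul_inv_cancel_right]⟩
  have hnorm : ∀ M : Subgroup G, M.Normal → (P : Subgroup G) ≤ M → M = ⊤ := fun M hM hPM => by
    by_contra hM'
    exact hPn (Subgroup.normalizer_eq_top_iff.mp (eq_top_iff.mpr fun g _ =>
      Sylow.smul_eq_iff_mem_normalizer.mp (hB M hM' _ _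
        (map_conj_le_iff.mpr fun x hx => hM.conj_mem x (hPM hx) g) hPM)))
  have hZ : (P : Subgroup G) ⊓ Subgroup.center G = ⊥ := by
    rw [eq_bot_iff]
    rintro x ⟨hx, hxZ⟩
    by_contra hx1
    exact hnc fun a b => hC.of_mem P.2 hx hx1 (Subgroup.mem_center_iff.1 hxZ a)
      (Subgroup.mem_center_iff.1 hxZ b)
  have hle : ∀ (g : G) (Q : Sylow r G), Subgroup.centralizer ({g} : Set G) ⊓ Q ≠ ⊥ →
      (Q : Subgroup G) ≤ Subgroup.centralizer {g} := by
    intro g Q h y hy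
    obtain ⟨⟨x, hx, hxQ⟩, hx1⟩ := Subgroup.ne_bot_iff_exists_ne_one.mp h
    exact Subgroup.mem_centralizer_singleton_iff.2 (hC.of_mem Q.2 hxQ
      (fun e => hx1 (Subtype.ext e)) (hC.comm Q.2 hy hxQ)
      (Subgroup.mem_centralizer_singleton_iff.1 hx).symm)
  obtain ⟨ρ, hρ'⟩ := hρ.rep
  obtain ⟨k, hk, hk'⟩ := exists_char_eq_sum_nat (isCharacter_of_rep ρ)
  choose d hd0 hd using fun ψ : IrrCharacter G => exists_irr_one_eq_nat ψ.2
  have hdn : ∀ ψ, k ψ ≠ 0 → d ψ ≤ m := by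
    intro ψ hψ
    have h1 := congrFun hk' 1
    simp only [Representation.char_one, Module.finrank_fin_fun, Finset.sum_apply, Pi.smul_apply,
      hd, smul_eq_mul] at h1
    have h2 : m = ∑ ψ, k ψ * d ψ := by exact_mod_cast h1
    rw [h2]
    exact (Nat.le_mul_of_pos_left _ (Nat.pos_of_ne_zero hψ)).trans
      (single_le_sum (f := fun ψ => k ψ * d ψ) (fun _ _ => Nat.zero_le _) (mem_univ ψ))
  have hker : ∀ g : G, (∀ ψ : IrrCharacter G, k ψ ≠ 0 → (ψ : G → ℂ) g = (ψ : G → ℂ) 1) →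
      g = 1 := by
    intro g hg
    apply hρ'
    rw [map_one, ← MonoidHom.mem_ker, ← char_eq_one_iff_mem_ker, hk']
    simp only [Finset.sum_apply, Pi.smul_apply, smul_eq_mul]
    refine sum_congr rfl fun ψ _ => ?_
    by_cases hψ : k ψ = 0
    · simp [hψ]
    · rw [hg ψ hψ]
  obtain ⟨ψ, hψ, hψ1⟩ : ∃ ψ : IrrCharacter G, k ψ ≠ 0 ∧ (ψ : G → ℂ) 1 ≠ 1 := by
    by_contra h
    push Not at h
    refine hnc fun a b => commutatorElement_eq_one_iff_commute.1 (hker _ fun ψ hψ =>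
      (mem_charKer (irr_isCharacter ψ)).1 ((irr_one_eq_one_iff ψ.2).1 (h ψ hψ) ?_))
    exact Subgroup.commutator_mem_commutator (Subgroup.mem_top a) (Subgroup.mem_top b)
  have hψx : ∃ h ∈ (P : Subgroup G), (ψ : G → ℂ) h ≠ (ψ : G → ℂ) 1 := by
    by_contra h
    push Not at h
    refine hψ1 ((irr_one_eq_one_iff ψ.2).2 ?_)
    rw [hnorm _ (charKer_normal (irr_isClassFunction ψ)) fun x hx =>
      (mem_charKer (irr_isCharacter ψ)).2 (h x hx)]
    exact le_top
  have h1 := (Cfsg.Agent.S0898.result (P : Subgroup G) (fun a ha b hb => hC.comm P.2 ha hb) hZ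
    (fun g hg a b ha hb => congrArg (fun Q : Sylow r G => (Q : Subgroup G))
      (hB (Subgroup.centralizer {g}) (fun h => hg (Subgroup.mem_center_iff.mpr fun g =>
        Subgroup.mem_centralizer_singleton_iff.mp (h ▸ Subgroup.mem_top g))) (a • P) (b • P)
        (hle g _ ha) (hle g _ hb))) ψ ψ.2 hψx).2 hψ1 hnorm
  rw [hd, Complex.natCast_re] at h1
  have h2 : Nat.card P < (1 + d ψ) ^ 2 := by exact_mod_cast h1
  have h3 := Nat.pow_le_pow_left (show 1 + d ψ ≤ m + 1 by have := hdn ψ hψ; omega) 2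
  omega

theorem HasRep.ti {G : Type*} [Group G] [Finite G] {m r : ℕ} [Fact r.Prime] (h : HasRep G m)
    (hC : CAb G r) (P : Sylow r G) (hP : (m + 1) ^ 2 ≤ Nat.card P) : (P : Subgroup G).Normal :=
  ti_aux m r _ G rfl h hC P hP

theorem card_psl_odd {r : ℕ} [hr : Fact r.Prime] (h : Odd r) :
    Nat.card PSL(2, ZMod r) * 2 = (r + 1) * (r * (r - 1)) := by
  have h1 := Dickson.card_mul_index_eq (F := ZMod r) (Dickson.pslPGL (ZMod r)).range
  rwa [Dickson.card_range_pslPGL, Dickson.index_psl_odd (by rwa [Nat.card_zmod]),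
    Nat.card_zmod] at h1

/-- Brauer's theorems on groups of degree at most `(r - 1) / 2` -/
theorem HasRep.brauer {G : Type*} [Group G] [Finite G] {m r : ℕ} (h : HasRep G m) (hr : r.Prime)
    (h1 : r ∣ Nat.card G) (h2 : ¬ r ^ 2 ∣ Nat.card G) (hm : 2 * m + 1 ≤ r) :
    (∃ N : Subgroup G, N.Normal ∧ Nat.card N = r) ∨
      (r = 2 * m + 1 ∧ (Subgroup.center G).index * 2 = (r + 1) * (r * (r - 1))) := by
  by_contra hc
  rw [not_or] at hc
  have hnn : ∀ H : Subgroup G, H.Normal → Nat.card H ≠ r := fun H hH e => hc.1 ⟨H, hH, e⟩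
  obtain ⟨χ, hχ, hf, hd⟩ := h.char
  have h3 := Cfsg.Agent.S4503.result r hr h1 h2 hnn χ hχ hf
  have h4 : r = 2 * m + 1 := by omega
  obtain ⟨e⟩ := Cfsg.Agent.S4504.result r hr h1 h2 hnn χ hχ hf (by omega)
  have := Fact.mk hr
  refine hc.2 ⟨h4, ?_⟩
  rw [Subgroup.index, Nat.card_congr e.toEquiv]
  exact card_psl_odd ⟨m, h4⟩

theorem three_dvd_of_index {G : Type*} [Group G] {r : ℕ} (hr : 0 < r)
    (h : (Subgroup.center G).index * 2 = (r + 1) * (r * (r - 1))) : 3 ∣ Nat.card G := by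
  refine (Nat.Coprime.dvd_of_dvd_mul_right (by norm_num : Nat.Coprime 3 2) ?_).trans
    (Subgroup.center G).index_dvd_card
  rw [h]
  obtain ⟨s, rfl⟩ : ∃ s, r = s + 1 := ⟨r - 1, by omega⟩
  rw [Nat.add_sub_cancel]
  have : s % 3 = 0 ∨ (s + 1) % 3 = 0 ∨ (s + 1 + 1) % 3 = 0 := by omega
  rcases this with h | h | h
  · exact ((Nat.dvd_of_mod_eq_zero h).mul_left _).mul_left _
  · exact ((Nat.dvd_of_mod_eq_zero h).mul_right _).mul_left _
  · exact (Nat.dvd_of_mod_eq_zero h).mul_right _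

/-- a large prime has a normal Sylow subgroup -/
theorem HasRep.normal {G : Type*} [Group G] [Finite G] {m s : ℕ} [hs : Fact s.Prime]
    (h : HasRep G m) (h0 : m + 1 < s) (hm : 2 * m + 1 ≤ s) (h3 : s = 2 * m + 1 → ¬ 3 ∣ Nat.card G)
    (P : Sylow s G) : (P : Subgroup G).Normal := by
  obtain ⟨ρ, hρ⟩ := h.rep
  refine Cfsg.Agent.S0899.result m ρ hρ s (Or.inr ⟨h0, fun K hK Q => ?_⟩) P
  by_cases h1 : s ∣ Nat.card K
  · rcases (h.sub K).brauer hs.out h1 hK hm with ⟨N, hN, hc⟩ | ⟨e, hc⟩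
    · have hp : IsPGroup s N := IsPGroup.of_card (n := 1) (by rw [hc, pow_one])
      have hle := hp.le_sylow_of_normal Q
      obtain ⟨j, hj⟩ := IsPGroup.iff_card.1 Q.2
      have hj1 : j ≤ 1 := by
        by_contra hj1
        exact hK ((pow_dvd_pow s (by omega)).trans (hj ▸ Subgroup.card_subgroup_dvd_card _))
      rwa [← Subgroup.eq_of_le_of_card_ge hle (by
        rw [hj, hc]; exact (Nat.pow_le_pow_right hs.out.pos hj1).trans (pow_one s).le)]
    · exact absurd ((three_dvd_of_index hs.out.pos hc).trans K.card_subgroup_dvd_card) (h3 e)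
  · obtain ⟨j, hj⟩ := IsPGroup.iff_card.1 Q.2
    have hj0 : j = 0 := by
      by_contra hj0
      exact h1 ((dvd_pow_self s hj0).trans (hj ▸ Subgroup.card_subgroup_dvd_card _))
    rw [hj0, pow_zero, Subgroup.card_eq_one] at hj
    rw [hj]
    infer_instance

end CfsgLib.KgT
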