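import Cfsg.Agent.Lib.KgT.Fld
import Cfsg.Agent.Lib.KgT.Rep

/-! Elements whose order is a primitive prime divisor act irreducibly. -/

set_option autoImplicit false

namespace CfsgLib.KgT

open Subgroup CfsgLib.Perm

variable {G V : Type*} [Group G] [AddCommGroup V] [DistribMulAction G V] [Finite G] [Finite V]
  [FaithfulSMul G V] {p n r : ℕ}

/-- the vectors fixed by `x` -/
def fx (V : Type*) [AddCommGroup V] [DistribMulAction G V] (x : G) : AddSubgroup V where
  carrier := {v | x • v = v}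
  add_mem' {a b} ha hb := by
    simp only [Set.mem_setOf_eq] at *
    rw [smul_add, ha, hb]
  zero_mem' := smul_zero x
  neg_mem' {a} ha := by
    simp only [Set.mem_setOf_eq] at *
    rw [smul_neg, ha]

omit [Finite G] [FaithfulSMul G V] in
theorem card_modEq_fx (hr : r.Prime) {x : G} (hx : orderOf x = r) (W : AddSubgroup V)
    (hW : ∀ w ∈ W, x • w ∈ W) : Nat.card W ≡ Nat.card ↥(W ⊓ fx V x) [MOD r] := by
  classical
  have := Fact.mk hr
  have := Fintype.ofFinite W
  let f : Function.End W := fun w => ⟨x • w.1, hW _ w.2⟩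
  have hf : ∀ (k : ℕ) (w : W), ((f ^ k) w).1 = x ^ k • w.1 := by
    intro k
    induction k with
    | zero => intro w; simp [Function.End.one_def]
    | succ k ih =>
      intro w
      rw [pow_succ', pow_succ', mul_smul, ← ih]
      rfl
  have h1 : f ^ r ^ 1 = 1 := funext fun w => Subtype.ext (by
    rw [hf, pow_one, ← hx, pow_orderOf_eq_one, one_smul]; rfl)
  have h2 := Equiv.Perm.card_fixedPoints_modEq h1
  rw [← Nat.card_eq_fintype_card, ← Nat.card_eq_fintype_card] at h2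
  rwa [Nat.card_congr (β := ↥(W ⊓ fx V x)) ⟨fun w : f.fixedPoints =>
    ⟨w.1.1, w.1.2, congrArg Subtype.val w.2⟩,
    fun w => ⟨⟨w.1, w.2.1⟩, Subtype.ext w.2.2⟩, fun _ => rfl, fun _ => rfl⟩] at h2

omit [Finite G] [FaithfulSMul G V] in
theorem Tr.card_sub (h : Tr G V p n) (W : AddSubgroup V) : ∃ j ≤ n, Nat.card W = p ^ j :=
  (Nat.dvd_prime_pow h.prime).1 (h.card ▸ W.card_addSubgroup_dvd_card)

omit [Finite G] in
theorem Tr.exists_fx (h : Tr G V p n) (hr : r.Prime) {x : G} (hx : orderOf x = r) :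
    ∃ e < n, Nat.card (fx V x) = p ^ e ∧ r ∣ p ^ n - p ^ e := by
  obtain ⟨e, he, hc⟩ := h.card_sub (fx V x)
  have h1 := card_modEq_fx hr hx (⊤ : AddSubgroup V) fun _ _ => trivial
  rw [top_inf_eq, AddSubgroup.card_top, h.card, hc] at h1
  refine ⟨e, lt_of_le_of_ne he ?_, hc, (Nat.modEq_iff_dvd' (Nat.pow_le_pow_right h.prime.pos he)).1
    h1.symm⟩
  rintro rfl
  have h2 := AddSubgroup.eq_top_of_card_eq _ (hc.trans h.card.symm)
  have h3 : x = 1 := FaithfulSMul.eq_of_smul_eq_smul (α := V) fun v => by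
    rw [one_smul]; exact (h2.ge (AddSubgroup.mem_top v) : v ∈ fx V x)
  rw [h3, orderOf_one] at hx
  exact hr.one_lt.ne hx

omit [Finite G] in
theorem Tr.irred (h : Tr G V p n) (hr : Ppd p n r) {x : G} (hx : orderOf x = r)
    (W : AddSubgroup V) (hW : ∀ w ∈ W, x • w ∈ W) : W = ⊥ ∨ W = ⊤ := by
  have hp := h.prime.pos
  obtain ⟨e, he, hc, hd⟩ := h.exists_fx hr.prime hx
  have he0 : e = 0 := by
    by_contra he0
    have h1 : r ∣ p ^ e - 1 := by
      have h2 := Nat.dvd_sub hr.dvd hd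
      have h3 := Nat.one_le_pow e p hp
      have h4 := Nat.pow_le_pow_right hp he.le
      rwa [show p ^ n - 1 - (p ^ n - p ^ e) = p ^ e - 1 by omega] at h2
    exact hr.not_dvd e (Nat.pos_of_ne_zero he0) he h1
  rw [he0, pow_zero, AddSubgroup.card_eq_one] at hc
  have h1 := card_modEq_fx hr.prime hx W hW
  obtain ⟨j, hj, hWj⟩ := h.card_sub W
  rw [hc, inf_bot_eq, AddSubgroup.card_bot, hWj] at h1
  have h2 := (Nat.modEq_iff_dvd' (Nat.one_le_pow j p hp)).1 h1.symm
  by_cases hj0 : j = 0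
  · rw [hj0, pow_zero, AddSubgroup.card_eq_one] at hWj
    exact Or.inl hWj
  · have h3 : j = n := by
      by_contra h3
      exact hr.not_dvd j (Nat.pos_of_ne_zero hj0) (by omega) h2
    exact Or.inr (AddSubgroup.eq_top_of_card_eq _ (by rw [hWj, h3, h.card]))

omit [Finite G] in
theorem Tr.cab (h : Tr G V p n) (hr : Ppd p n r) : CAb G r := by
  intro x hx a b ha hb
  have := h.nontrivial
  let φ := DistribMulAction.toAddMonoidEnd G V
  have hF : IsField (Subring.centralizer ({φ x} : Set (AddMonoid.End V))) := by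
    refine isField_of_inj _ fun f hf v hv e => ?_
    have h1 : φ x * f = f * φ x := hf _ rfl
    rcases h.irred hr hx (AddMonoidHom.ker (f : V →+ V)) (fun w hw => by
      have h2 : f (x • w) = x • f w := (DFunLike.congr_fun h1 w).symm
      have h3 : f w = 0 := hw
      change f (x • w) = 0
      rw [h2, h3, smul_zero]) with h2 | h2
    · exact absurd (AddSubgroup.mem_bot.1 (h2.le (e : v ∈ AddMonoidHom.ker (f : V →+ V)))) hv
    · exact AddMonoidHom.ext fun w => (h2.ge (AddSubgroup.mem_top w) :)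
  have hm : ∀ c : G, Commute c x → φ c ∈ Subring.centralizer ({φ x} : Set (AddMonoid.End V)) := by
    rintro c hc _ rfl
    rw [← map_mul, ← map_mul, hc.eq]
  refine toAddMonoidEnd_injective (V := V) ?_
  rw [map_mul, map_mul]
  exact congrArg Subtype.val (hF.mul_comm ⟨_, hm a ha⟩ ⟨_, hm b hb⟩)

theorem Tr.gam_of_pgroup (h : Tr G V p n) (hr : Ppd p n r) (Q : Subgroup G) [Q.Normal]
    (hQ : IsPGroup r Q) (hd : r ∣ Nat.card Q) : Gam G V := by
  have := Fact.mk hr.prime
  have : IsMulCommutative Q := ⟨⟨fun a b => Subtype.ext ((h.cab hr).comm hQ a.2 b.2)⟩⟩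
  exact h.gam_of_dvd hr Q hd

theorem Ppd.succ_le (hr : Ppd p n r) (hp : 0 < p) (hn : 0 < n) : n + 1 ≤ r :=
  succ_le_of_primitive hp hn hr.prime hr.dvd hr.not_dvd

theorem Ppd.dvd_sub_one (hr : Ppd p n r) (hp : 0 < p) (hn : 0 < n) : n ∣ r - 1 := by
  have := Fact.mk hr.prime
  have h1 : ∀ k, (p : ZMod r) ^ k = 1 ↔ r ∣ p ^ k - 1 := fun k => by
    rw [← ZMod.natCast_eq_zero_iff, Nat.cast_sub (Nat.one_le_pow k p hp), sub_eq_zero]
    simp
  have h2 : orderOf (p : ZMod r) = n :=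
    (orderOf_eq_iff hn).2 ⟨(h1 n).2 hr.dvd, fun k hk hk0 e => hr.not_dvd k hk0 hk ((h1 k).1 e)⟩
  rw [← h2]
  refine ZMod.orderOf_dvd_card_sub_one fun e => ?_
  have := (h1 n).2 hr.dvd
  rw [e, zero_pow hn.ne'] at this
  exact zero_ne_one this

end CfsgLib.KgT
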